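import Mathlib
import Groth.Prelude.Def_SGA3b
import Groth.Agent.Lib.Helper6.QIso.QI17
import Groth.Agent.Lib.Helper6.FlatDef.FD5

/-!
# Homomorphisms between groups of multiplicative type and nilpotent thickenings, part 1 (helper6)

Reduction along a surjection `R → R₀` with nilpotent kernel: for a chart `T` diagonalising both
groups, every homomorphism over `R₀` lifts to a homomorphism over `T`, compatibly with all base
changes.
-/

set_option autoImplicit false
set_option linter.unusedSectionVars false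
set_option linter.unusedVariables false
set_option linter.unusedSimpArgs false
set_option linter.style.haveILetI false
set_option linter.overlappingInstances false
set_option maxHeartbeats 800000
set_option synthInstance.maxHeartbeats 400000

universe u
open TensorProduct SGA3b Coalgebra
open Groth.Agent.Lib.Helper6.MultType Groth.Agent.Lib.Helper6.Isotriv
open Groth.Agent.Lib.Helper6.QIso Groth.Agent.Lib.Helper6.Lift Groth.Agent.Lib.Helper6.FlatDef

namespace Groth.Agent.Lib.Helper6.HomNil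

section Red

variable {R : Type u} [CommRing R] (R₀ : Type u) [CommRing R₀] [Algebra R R₀]
variable (T : Type u) [CommRing T] [Algebra R T]
variable (S : Type u) [CommRing S] [Algebra R S] [Algebra T S] [IsScalarTower R T S]

/-- the reduction map `S → S ⊗ R₀` -/
noncomputable def red : S →ₐ[T] S ⊗[R] R₀ := Algebra.TensorProduct.includeLeft

lemma red_apply (x : S) : red (R := R) R₀ T S x = x ⊗ₜ[R] (1 : R₀) := rfl

variable {R₀}

lemma red_surjective (hsurj : Function.Surjective (algebraMap R R₀)) :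
    Function.Surjective (red (R := R) R₀ T S) := by
  intro y
  induction y using TensorProduct.induction_on with
  | zero => exact ⟨0, map_zero _⟩
  | tmul s r₀ =>
    obtain ⟨r, rfl⟩ := hsurj r₀
    refine ⟨r • s, ?_⟩
    rw [red_apply, TensorProduct.smul_tmul, ← Algebra.algebraMap_eq_smul_one]
  | add y z hy hz =>
    obtain ⟨a, rfl⟩ := hy
    obtain ⟨b, rfl⟩ := hz
    exact ⟨a + b, map_add _ _ _⟩

variable (K : Ideal R) (hK : IsNilpotent K) (hker : ∀ r : R, algebraMap R R₀ r = 0 → r ∈ K)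
  (hsurj : Function.Surjective (algebraMap R R₀))

include hK hker hsurj in
lemma red_eq_zero_nil (x : S) (hx : red (R := R) R₀ T S x = 0) : IsNilpotent x := by
  have hsurj' : Function.Surjective (Algebra.ofId R R₀ : R →ₐ[R] R₀) := hsurj
  have hle : RingHom.ker (Algebra.ofId R R₀ : R →ₐ[R] R₀) ≤ K := by
    intro r hr
    rw [RingHom.mem_ker] at hr
    exact hker r hr
  obtain ⟨g, -⟩ : ∃ g : R₀ →ₐ[R] R ⧸ K, g = g :=
    ⟨(Ideal.Quotient.factorₐ R hle).comp
      (Ideal.quotientKerAlgEquivOfSurjective hsurj').symm.toAlgHom, rfl⟩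
  have h1 : Algebra.TensorProduct.map (AlgHom.id R S) g (x ⊗ₜ[R] (1 : R₀)) = 0 := by
    rw [← red_apply R₀ T S x, hx, map_zero]
  rw [Algebra.TensorProduct.map_tmul, map_one] at h1
  have h2 : x ∈ K.map (algebraMap R S) := (redHom_eq_zero_iff K T S x).mp h1
  exact nil_of_isNilpotent _ (isNilpotent_map K hK S) x h2

include hK hker hsurj in
lemma red_ker_jacobson (x : S) (hx : red (R := R) R₀ T S x = 0) : x ∈ Ideal.jacobson (⊥ : Ideal S) := by
  have hn := red_eq_zero_nil T S K hK hker hsurj x hx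
  rw [Ideal.mem_jacobson_bot]
  intro y
  exact ((Commute.all x y).isNilpotent_mul_right hn).isUnit_add_one

include hK hker hsurj in
lemma red_idem_lift (e0 : S ⊗[R] R₀) (he0 : IsIdempotentElem e0) :
    ∃ e : S, IsIdempotentElem e ∧ red (R := R) R₀ T S e = e0 := by
  have h := exists_isIdempotentElem_eq_of_ker_isNilpotent
    ((red (R := R) R₀ T S : S →ₐ[T] S ⊗[R] R₀) : S →+* S ⊗[R] R₀)
    (fun x hx => red_eq_zero_nil T S K hK hker hsurj x (RingHom.mem_ker.mp hx)) e0
    (RingHom.mem_range.mpr (red_surjective T S hsurj e0)) he0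
  exact h

end Red

section ChartLift

variable {R : Type u} [CommRing R] {R₀ : Type u} [CommRing R₀] [Algebra R R₀]
variable {B C : Type u} [CommRing B] [CommRing C] [HopfAlgebra R B] [HopfAlgebra R C]
variable {T : Type u} [CommRing T] [Algebra R T]
variable {M N : Type u} [CommGroup M] [CommGroup N]
variable (eB : T ⊗[R] B ≃ₐc[T] MonoidAlgebra T M) (eC : T ⊗[R] C ≃ₐc[T] MonoidAlgebra T N)
variable (K : Ideal R) (hK : IsNilpotent K) (hker : ∀ r : R, algebraMap R R₀ r = 0 → r ∈ K)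
  (hsurj : Function.Surjective (algebraMap R R₀))

include eB eC hK hker hsurj in
/-- Lifting over a chart, compatibly with all base changes. -/
theorem exists_chart_lift (Φ₀ : R₀ ⊗[R] C →ₐc[R₀] R₀ ⊗[R] B) :
    ∃ Φ : T ⊗[R] C →ₐc[T] T ⊗[R] B,
      ∀ (S' : Type u) [CommRing S'] [Algebra R S'] (θ : T →ₐ[R] S') (κ : R₀ →ₐ[R] S') (c : C),
        push B θ (Φ ((1 : T) ⊗ₜ[R] c)) = push B κ (Φ₀ ((1 : R₀) ⊗ₜ[R] c)) := by
  classical
  obtain ⟨π, hπ⟩ : ∃ π : T →ₐ[T] T ⊗[R] R₀, π = red (R := R) R₀ T T := ⟨_, rfl⟩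
  obtain ⟨π', hπ'⟩ : ∃ π' : T →ₐ[R] T ⊗[R] R₀, π' = π.restrictScalars R := ⟨_, rfl⟩
  obtain ⟨ι, hι⟩ : ∃ ι : R₀ →ₐ[R] T ⊗[R] R₀,
    ι = Algebra.TensorProduct.includeRight := ⟨_, rfl⟩
  have hJ : ∀ x : T, π x = 0 → x ∈ Ideal.jacobson (⊥ : Ideal T) := by
    rw [hπ]
    exact red_ker_jacobson T T K hK hker hsurj
  have hlift : ∀ e0 : T ⊗[R] R₀, IsIdempotentElem e0 →
      ∃ e : T, IsIdempotentElem e ∧ π e = e0 := by
    rw [hπ]
    exact red_idem_lift T T K hK hker hsurj
  have hπ1 : ∀ c' : C, push C π' ((1 : T) ⊗ₜ[R] c') = (1 : T ⊗[R] R₀) ⊗ₜ[R] c' := by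
    intro c'
    rw [push_tmul, map_one]
  have hι1 : ∀ c' : C, push C ι ((1 : R₀) ⊗ₜ[R] c') = (1 : T ⊗[R] R₀) ⊗ₜ[R] c' := by
    intro c'
    rw [push_tmul, map_one]
  -- base change of `Φ₀` to `T ⊗ R₀`
  obtain ⟨F₀, hF₀⟩ := exists_bcHom Φ₀ ι
  -- lifted characters
  have hgex : ∀ n : N, ∃ g : T ⊗[R] B, IsGroupLikeElem T g ∧
      push B π' g = F₀ (chi eC (T ⊗[R] R₀) n) := by
    intro n
    rw [hπ']
    exact exists_groupLike_push_eq eB π hJ hlift ((chi_groupLike eC (T ⊗[R] R₀) n).map F₀)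
  choose g hg hgπ using hgex
  have hgmul : ∀ n n' : N, g (n * n') = g n * g n' := by
    intro n n'
    apply groupLike_eq_of_push_eq eB π hJ (hg _) ((hg n).mul (hg n'))
    rw [← hπ', hgπ, map_mul, hgπ, hgπ, chi_mul', map_mul]
  let γ : N →* GroupLike T (T ⊗[R] B) :=
    MonoidHom.mk' (fun n => ⟨g n, hg n⟩) (fun n n' => GroupLike.val_injective (hgmul n n'))
  have hγ : ∀ n, (γ n).val = g n := fun _ => rfl
  obtain ⟨Φ, hΦ⟩ : ∃ Φ : T ⊗[R] C →ₐc[T] T ⊗[R] B, Φ = (PsiOf B T γ).comp
    (chartOver eC T : T ⊗[R] C →ₐc[T] MonoidAlgebra T N) := ⟨_, rfl⟩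
  have hΦχ : ∀ (n : N) (t : T), Φ (t • chi eC T n) = t • g n := by
    intro n t
    rw [hΦ]
    show PsiOf B T γ (chartOver eC T (t • chi eC T n)) = _
    rw [chartOver_smul_chi, PsiOf_single, hγ]
  -- compatibility with reduction
  have hred : ∀ x : T ⊗[R] C, push B π' (Φ x) = F₀ (push C π' x) := by
    apply chart_induction eC T (P := fun x => push B π' (Φ x) = F₀ (push C π' x))
    · show push B π' (Φ 0) = F₀ (push C π' 0)
      simp only [map_zero]
    · intro x y hx hy
      show push B π' (Φ (x + y)) = F₀ (push C π' (x + y))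
      rw [map_add, map_add, map_add, map_add, hx, hy]
    · intro n t
      show push B π' (Φ (t • chi eC T n)) = F₀ (push C π' (t • chi eC T n))
      rw [hΦχ, push_smul, push_smul, hgπ, map_smul F₀]
      congr 2
      rw [hπ']
      exact (chi_push eC π n).symm
  -- key compatibility
  have hkey : ∀ (S' : Type u) [CommRing S'] [Algebra R S'] (θ : T →ₐ[R] S')
      (κ : R₀ →ₐ[R] S') (c : C),
      push B θ (Φ ((1 : T) ⊗ₜ[R] c)) = push B κ (Φ₀ ((1 : R₀) ⊗ₜ[R] c)) := by
    intro S' _ _ θ κ c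
    have e1 : θ = (Algebra.TensorProduct.productMap θ κ).comp π' := by
      apply AlgHom.ext
      intro t
      rw [hπ', hπ]
      show θ t = Algebra.TensorProduct.productMap θ κ (t ⊗ₜ[R] (1 : R₀))
      rw [Algebra.TensorProduct.productMap_left_apply]
    have e2 : κ = (Algebra.TensorProduct.productMap θ κ).comp ι := by
      apply AlgHom.ext
      intro x
      rw [hι]
      show κ x = Algebra.TensorProduct.productMap θ κ ((1 : T) ⊗ₜ[R] x)
      rw [Algebra.TensorProduct.productMap_right_apply]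
    have h1 : push B θ (Φ ((1 : T) ⊗ₜ[R] c)) = push B (Algebra.TensorProduct.productMap θ κ)
        (push B π' (Φ ((1 : T) ⊗ₜ[R] c))) := by
      rw [← push_comp, ← e1]
    have h2 : push B κ (Φ₀ ((1 : R₀) ⊗ₜ[R] c)) =
        push B (Algebra.TensorProduct.productMap θ κ)
          (push B ι (Φ₀ ((1 : R₀) ⊗ₜ[R] c))) := by
      rw [← push_comp, ← e2]
    rw [h1, h2, hred, hπ1, ← hι1 c, hF₀]
  exact ⟨Φ, hkey⟩

end ChartLift

end Groth.Agent.Lib.Helper6.HomNil
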