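import Mathlib
import Groth.Prelude.Def_SGA3b
import Groth.Agent.Lib.Helper6.HomNil.HN1
import Groth.Agent.Lib.Helper6.Lift.Charts

/-!
# Homomorphisms between groups of multiplicative type and nilpotent thickenings, part 2 (helper6)

Descent of homomorphisms of bialgebras along a finite jointly faithfully flat family; lifting of
homomorphisms through a nilpotent thickening for groups diagonalised by such a family.
-/

set_option autoImplicit false
set_option linter.unusedSectionVars false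
set_option linter.unusedVariables false
set_option linter.unusedSimpArgs false
set_option linter.style.haveILetI false
set_option linter.overlappingInstances false
set_option maxHeartbeats 800000
set_option synthInstance.maxHeartbeats 400000

universe u
open TensorProduct SGA3b Coalgebra
open Groth.Agent.Lib.Helper6.MultType Groth.Agent.Lib.Helper6.Isotriv
open Groth.Agent.Lib.Helper6.QIso Groth.Agent.Lib.Helper6.Lift Groth.Agent.Lib.Helper6.FlatDef

namespace Groth.Agent.Lib.Helper6.HomNil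

section FamilyInj

variable {R : Type u} [CommRing R] {ι : Type u} [Fintype ι] [DecidableEq ι]
variable (S : ι → Type u) [∀ i, CommRing (S i)] [∀ i, Algebra R (S i)]
  [∀ i, Module.Flat R (S i)]
variable (hJF : ∀ 𝔭 : Ideal R, 𝔭 ≠ ⊤ → ∃ i, Ideal.map (algebraMap R (S i)) 𝔭 ≠ ⊤)

include hJF in
lemma family_inj (N : Type u) [AddCommGroup N] [Module R N] {x y : N}
    (h : ∀ i, (1 : S i) ⊗ₜ[R] x = (1 : S i) ⊗ₜ[R] y) : x = y := by
  rw [← sub_eq_zero]
  apply Lift.eq_zero_of_family S N hJF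
  intro i
  rw [TensorProduct.tmul_sub, h i, sub_self]

include hJF in
lemma family_inj_ring {r r' : R} (h : ∀ i, algebraMap R (S i) r = algebraMap R (S i) r') :
    r = r' := by
  apply family_inj S hJF R
  intro i
  have e : ∀ t : R, ((1 : S i) ⊗ₜ[R] t : S i ⊗[R] R) = (algebraMap R (S i) t) ⊗ₜ[R] (1 : R) := by
    intro t
    rw [Algebra.algebraMap_eq_smul_one, TensorProduct.smul_tmul, smul_eq_mul, mul_one]
  rw [e, e, h i]

include hJF in
lemma family_inj_T₀ (B : Type u) [CommRing B] [Bialgebra R B] {z z' : B ⊗[R] B}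
    (h : ∀ i, T₀ R (S i) B z = T₀ R (S i) B z') : z = z' := by
  apply family_inj S hJF (B ⊗[R] B)
  intro i
  apply (TensorProduct.AlgebraTensorModule.distribBaseChange R (S i) B B).injective
  rw [← T₀_eq_distrib, ← T₀_eq_distrib]
  exact h i

variable {B C : Type u} [CommRing B] [CommRing C] [Bialgebra R B] [Bialgebra R C]

include hJF in
/-- Descent of homomorphisms of bialgebras along a finite jointly faithfully flat family. -/
theorem exists_bialgHom_of_descends_family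
    (Φ : ∀ i, S i ⊗[R] C →ₐc[S i] S i ⊗[R] B)
    (h : ∀ c : C, ∃ b : B, ∀ i, Φ i ((1 : S i) ⊗ₜ[R] c) = (1 : S i) ⊗ₜ[R] b) :
    ∃ φ : C →ₐc[R] B, ∀ i (c : C), Φ i ((1 : S i) ⊗ₜ[R] c) = (1 : S i) ⊗ₜ[R] φ c := by
  have hinj : ∀ {b b' : B}, (∀ i, (1 : S i) ⊗ₜ[R] b = (1 : S i) ⊗ₜ[R] b') → b = b' :=
    fun h => family_inj S hJF B h
  choose f hf using h
  have f_one : f 1 = 1 := by
    apply hinj
    intro i
    rw [← hf 1 i, ← Algebra.TensorProduct.one_def, map_one, Algebra.TensorProduct.one_def]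
  have f_mul : ∀ c c', f (c * c') = f c * f c' := by
    intro c c'
    apply hinj
    intro i
    have e1 : ((1 : S i) ⊗ₜ[R] (c * c') : S i ⊗[R] C) =
        ((1 : S i) ⊗ₜ[R] c) * ((1 : S i) ⊗ₜ[R] c') := by
      rw [Algebra.TensorProduct.tmul_mul_tmul, mul_one]
    have e2 : ((1 : S i) ⊗ₜ[R] (f c * f c') : S i ⊗[R] B) =
        ((1 : S i) ⊗ₜ[R] f c) * ((1 : S i) ⊗ₜ[R] f c') := by
      rw [Algebra.TensorProduct.tmul_mul_tmul, mul_one]
    rw [← hf (c * c') i, e1, map_mul, hf c i, hf c' i, e2]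
  have f_zero : f 0 = 0 := by
    apply hinj
    intro i
    rw [← hf 0 i, TensorProduct.tmul_zero, map_zero, TensorProduct.tmul_zero]
  have f_add : ∀ c c', f (c + c') = f c + f c' := by
    intro c c'
    apply hinj
    intro i
    rw [← hf (c + c') i, TensorProduct.tmul_add, map_add, hf c i, hf c' i, TensorProduct.tmul_add]
  have f_alg : ∀ r : R, f (algebraMap R C r) = algebraMap R B r := by
    intro r
    apply hinj
    intro i
    rw [← hf _ i, one_tmul_algebraMap C, AlgHomClass.commutes, one_tmul_algebraMap B]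
  let φA : C →ₐ[R] B :=
    { toFun := f
      map_one' := f_one
      map_mul' := f_mul
      map_zero' := f_zero
      map_add' := f_add
      commutes' := f_alg }
  have hφA : ∀ c, φA c = f c := fun _ => rfl
  have hcounit : (Bialgebra.counitAlgHom R B).comp φA = Bialgebra.counitAlgHom R C := by
    apply AlgHom.ext
    intro c
    show counit (R := R) (f c) = counit (R := R) c
    apply family_inj_ring S hJF
    intro i
    rw [← counit_one_tmul R (S i) B (f c), ← hf c i, CoalgHomClass.counit_comp_apply,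
      counit_one_tmul R (S i) C c]
  have key : ∀ i (z : C ⊗[R] C), T₀ R (S i) B (Algebra.TensorProduct.map φA φA z) =
      TensorProduct.map (Φ i : S i ⊗[R] C →ₗ[S i] S i ⊗[R] B)
        (Φ i : S i ⊗[R] C →ₗ[S i] S i ⊗[R] B) (T₀ R (S i) C z) := by
    intro i z
    induction z using TensorProduct.induction_on with
    | zero => simp only [map_zero]
    | tmul c₁ c₂ =>
      rw [Algebra.TensorProduct.map_tmul, T₀_tmul, T₀_tmul, TensorProduct.map_tmul, hφA, hφA]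
      show _ = Φ i ((1 : S i) ⊗ₜ[R] c₁) ⊗ₜ[S i] Φ i ((1 : S i) ⊗ₜ[R] c₂)
      rw [hf c₁ i, hf c₂ i]
    | add y z hy hz => simp only [map_add, hy, hz]
  have hcomul : (Algebra.TensorProduct.map φA φA).comp (Bialgebra.comulAlgHom R C) =
      (Bialgebra.comulAlgHom R B).comp φA := by
    apply AlgHom.ext
    intro c
    show Algebra.TensorProduct.map φA φA (comul (R := R) c) = comul (R := R) (f c)
    apply family_inj_T₀ S hJF B
    intro i
    rw [key, ← comul_one_tmul R (S i) C c, CoalgHomClass.map_comp_comul_apply, hf c i,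
      comul_one_tmul R (S i) B (f c)]
  exact ⟨BialgHom.ofAlgHom φA hcounit hcomul, fun i c => hf c i⟩

end FamilyInj

section Assoc

variable {R : Type u} [CommRing R] (B : Type u) [CommRing B] [Bialgebra R B]
variable (S₁ S₂ : Type u) [CommRing S₁] [CommRing S₂] [Algebra R S₁] [Algebra R S₂]

lemma assoc_push_left (y : S₁ ⊗[R] B) :
    TensorProduct.assoc R S₁ S₂ B
      (push B (Algebra.TensorProduct.includeLeft : S₁ →ₐ[R] S₁ ⊗[R] S₂) y) =
      LinearMap.lTensor S₁ (TensorProduct.mk R S₂ B 1) y := by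
  induction y using TensorProduct.induction_on with
  | zero => simp
  | tmul s b =>
    rw [push_tmul, Algebra.TensorProduct.includeLeft_apply, TensorProduct.assoc_tmul,
      LinearMap.lTensor_tmul]
    rfl
  | add y z hy hz => rw [map_add, map_add, hy, hz, map_add]

lemma assoc_push_right (z : S₂ ⊗[R] B) :
    TensorProduct.assoc R S₁ S₂ B
      (push B (Algebra.TensorProduct.includeRight : S₂ →ₐ[R] S₁ ⊗[R] S₂) z) =
      (1 : S₁) ⊗ₜ[R] z := by
  induction z using TensorProduct.induction_on with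
  | zero => simp
  | tmul t b =>
    rw [push_tmul, Algebra.TensorProduct.includeRight_apply, TensorProduct.assoc_tmul]
  | add y z hy hz => rw [map_add, map_add, hy, hz, TensorProduct.tmul_add]

end Assoc

section Rigid

variable {R : Type u} [CommRing R] {R₀ : Type u} [CommRing R₀] [Algebra R R₀]
variable {B C : Type u} [CommRing B] [CommRing C] [HopfAlgebra R B] [HopfAlgebra R C]
variable {T₁ T₂ : Type u} [CommRing T₁] [Algebra R T₁] [CommRing T₂] [Algebra R T₂]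
variable {M N : Type u} [CommGroup M] [CommGroup N]
variable (eB : T₁ ⊗[R] B ≃ₐc[T₁] MonoidAlgebra T₁ M) (eC : T₁ ⊗[R] C ≃ₐc[T₁] MonoidAlgebra T₁ N)
variable (K : Ideal R) (hK : IsNilpotent K) (hker : ∀ r : R, algebraMap R R₀ r = 0 → r ∈ K)
  (hsurj : Function.Surjective (algebraMap R R₀))

include eB eC hK hker hsurj in
/-- Two compatible lifts over two charts agree over the tensor product of the charts. -/
theorem push_eq_of_hkey (Φ₀ : R₀ ⊗[R] C →ₐc[R₀] R₀ ⊗[R] B)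
    (Φ₁ : T₁ ⊗[R] C →ₐc[T₁] T₁ ⊗[R] B) (Φ₂ : T₂ ⊗[R] C →ₐc[T₂] T₂ ⊗[R] B)
    (h₁ : ∀ (S' : Type u) [CommRing S'] [Algebra R S'] (θ : T₁ →ₐ[R] S') (κ : R₀ →ₐ[R] S')
      (c : C), push B θ (Φ₁ ((1 : T₁) ⊗ₜ[R] c)) = push B κ (Φ₀ ((1 : R₀) ⊗ₜ[R] c)))
    (h₂ : ∀ (S' : Type u) [CommRing S'] [Algebra R S'] (θ : T₂ →ₐ[R] S') (κ : R₀ →ₐ[R] S')
      (c : C), push B θ (Φ₂ ((1 : T₂) ⊗ₜ[R] c)) = push B κ (Φ₀ ((1 : R₀) ⊗ₜ[R] c)))
    (c : C) :
    push B (Algebra.TensorProduct.includeLeft : T₁ →ₐ[R] T₁ ⊗[R] T₂) (Φ₁ ((1 : T₁) ⊗ₜ[R] c)) =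
      push B (Algebra.TensorProduct.includeRight : T₂ →ₐ[R] T₁ ⊗[R] T₂)
        (Φ₂ ((1 : T₂) ⊗ₜ[R] c)) := by
  obtain ⟨jl, hjl⟩ : ∃ jl : T₁ →ₐ[R] T₁ ⊗[R] T₂, jl = Algebra.TensorProduct.includeLeft :=
    ⟨_, rfl⟩
  obtain ⟨jr, hjr⟩ : ∃ jr : T₂ →ₐ[R] T₁ ⊗[R] T₂, jr = Algebra.TensorProduct.includeRight :=
    ⟨_, rfl⟩
  obtain ⟨Ψl, hΨl⟩ := exists_bcHom Φ₁ jl
  obtain ⟨Ψr, hΨr⟩ := exists_bcHom Φ₂ jr
  have hJS : ∀ x : T₁ ⊗[R] T₂, red (R := R) R₀ T₁ (T₁ ⊗[R] T₂) x = 0 →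
      x ∈ Ideal.jacobson (⊥ : Ideal (T₁ ⊗[R] T₂)) :=
    red_ker_jacobson T₁ (T₁ ⊗[R] T₂) K hK hker hsurj
  have el : ∀ c : C, Ψl ((1 : T₁ ⊗[R] T₂) ⊗ₜ[R] c) = push B jl (Φ₁ ((1 : T₁) ⊗ₜ[R] c)) := by
    intro c
    rw [← hΨl, push_tmul, map_one]
  have er : ∀ c : C, Ψr ((1 : T₁ ⊗[R] T₂) ⊗ₜ[R] c) = push B jr (Φ₂ ((1 : T₂) ⊗ₜ[R] c)) := by
    intro c
    rw [← hΨr, push_tmul, map_one]
  have hΨ : ∀ y, Ψl y = Ψr y := by
    apply bialgHom_eq_of_push_eq eB eC (red (R := R) R₀ T₁ (T₁ ⊗[R] T₂)) hJS Ψl Ψr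
    intro c
    rw [el, er, ← push_comp, ← push_comp,
      h₁ _ (((red (R := R) R₀ T₁ (T₁ ⊗[R] T₂)).restrictScalars R).comp jl)
        Algebra.TensorProduct.includeRight c,
      h₂ _ (((red (R := R) R₀ T₁ (T₁ ⊗[R] T₂)).restrictScalars R).comp jr)
        Algebra.TensorProduct.includeRight c]
  rw [← hjl, ← hjr, ← el, ← er, hΨ]

end Rigid

section Main

variable {R : Type u} [CommRing R] {R₀ : Type u} [CommRing R₀] [Algebra R R₀]
variable {B C : Type u} [CommRing B] [CommRing C] [HopfAlgebra R B] [HopfAlgebra R C]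
variable (K : Ideal R) (hK : IsNilpotent K) (hker : ∀ r : R, algebraMap R R₀ r = 0 → r ∈ K)
  (hsurj : Function.Surjective (algebraMap R R₀))

include hK hker hsurj in
/-- Lifting of homomorphisms through a nilpotent thickening, for two groups diagonalised by a
finite jointly faithfully flat family of flat algebras. -/
theorem exists_hom_lift_family {ι : Type u} [Fintype ι] [DecidableEq ι]
    (T : ι → Type u) [∀ i, CommRing (T i)] [∀ i, Algebra R (T i)] [∀ i, Module.Flat R (T i)]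
    (hJF : ∀ 𝔭 : Ideal R, 𝔭 ≠ ⊤ → ∃ i, Ideal.map (algebraMap R (T i)) 𝔭 ≠ ⊤)
    (hB : ∀ i, IsDiag (T i) (T i ⊗[R] B)) (hC : ∀ i, IsDiag (T i) (T i ⊗[R] C))
    (Φ₀ : R₀ ⊗[R] C →ₐc[R₀] R₀ ⊗[R] B) :
    ∃ φ : C →ₐc[R] B, ∀ c : C, Φ₀ ((1 : R₀) ⊗ₜ[R] c) = (1 : R₀) ⊗ₜ[R] φ c := by
  classical
  have hΦ : ∀ i, ∃ Φ : T i ⊗[R] C →ₐc[T i] T i ⊗[R] B,
      ∀ (S' : Type u) [CommRing S'] [Algebra R S'] (θ : T i →ₐ[R] S') (κ : R₀ →ₐ[R] S') (c : C),
        push B θ (Φ ((1 : T i) ⊗ₜ[R] c)) = push B κ (Φ₀ ((1 : R₀) ⊗ₜ[R] c)) := by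
    intro i
    obtain ⟨Mi, _, ⟨eBi⟩⟩ := hB i
    obtain ⟨Ni, _, ⟨eCi⟩⟩ := hC i
    exact exists_chart_lift eBi eCi K hK hker hsurj Φ₀
  choose Φ hΦkey using hΦ
  have hcompat : ∀ (c : C) (i j : ι),
      push B (Algebra.TensorProduct.includeLeft : T i →ₐ[R] T i ⊗[R] T j)
        (Φ i ((1 : T i) ⊗ₜ[R] c)) =
      push B (Algebra.TensorProduct.includeRight : T j →ₐ[R] T i ⊗[R] T j)
        (Φ j ((1 : T j) ⊗ₜ[R] c)) := by
    intro c i j
    obtain ⟨Mi, _, ⟨eBi⟩⟩ := hB i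
    obtain ⟨Ni, _, ⟨eCi⟩⟩ := hC i
    exact push_eq_of_hkey eBi eCi K hK hker hsurj Φ₀ (Φ i) (Φ j) (hΦkey i) (hΦkey j) c
  have hdesc : ∀ c : C, ∃ b : B, ∀ i, Φ i ((1 : T i) ⊗ₜ[R] c) = (1 : T i) ⊗ₜ[R] b := by
    intro c
    exact Lift.exists_of_compat T B hJF (fun i => Φ i ((1 : T i) ⊗ₜ[R] c)) (by
      intro i j
      rw [← assoc_push_right B (T i) (T j) (Φ j ((1 : T j) ⊗ₜ[R] c)),
        ← assoc_push_left B (T i) (T j) (Φ i ((1 : T i) ⊗ₜ[R] c)), hcompat c i j])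
  obtain ⟨φ, hφ⟩ := exists_bialgHom_of_descends_family T hJF Φ hdesc
  refine ⟨φ, fun c => ?_⟩
  apply family_inj T hJF (R₀ ⊗[R] B)
  intro i
  rw [← assoc_push_right B (T i) R₀ (Φ₀ ((1 : R₀) ⊗ₜ[R] c)),
    ← assoc_push_right B (T i) R₀ ((1 : R₀) ⊗ₜ[R] φ c)]
  refine congrArg (TensorProduct.assoc R (T i) R₀ B) ?_
  rw [← hΦkey i _ (Algebra.TensorProduct.includeLeft : T i →ₐ[R] T i ⊗[R] R₀)
    Algebra.TensorProduct.includeRight c, hφ i c, push_tmul, push_tmul, map_one, map_one]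

include hK hker hsurj in
/-- Lifting of homomorphisms through a nilpotent thickening, from a group diagonalised by one
faithfully flat algebra to a group of multiplicative type. -/
theorem exists_hom_lift_of_nilpotent (TB : Type u) [CommRing TB] [Algebra R TB]
    [Module.FaithfullyFlat R TB] (hdB : IsDiag TB (TB ⊗[R] B)) (hC : IsMultType R C)
    (Φ₀ : R₀ ⊗[R] C →ₐc[R₀] R₀ ⊗[R] B) :
    ∃ φ : C →ₐc[R] B, ∀ c : C, Φ₀ ((1 : R₀) ⊗ₜ[R] c) = (1 : R₀) ⊗ₜ[R] φ c := by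
  classical
  obtain ⟨ι, _, _, c, hJFc⟩ := IsMultType.exists_charts hC
  have hJF : ∀ 𝔭 : Ideal R, 𝔭 ≠ ⊤ →
      ∃ i, Ideal.map (algebraMap R ((c i).S ⊗[R] TB)) 𝔭 ≠ ⊤ := by
    intro 𝔭 h𝔭
    obtain ⟨i, hi⟩ := hJFc 𝔭 h𝔭
    refine ⟨i, ?_⟩
    have hne := ((Module.FaithfullyFlat.iff_flat_and_proper_ideal (c i).S
      ((c i).S ⊗[R] TB)).mp inferInstance).2 _ hi
    intro htop
    apply hne
    rw [Ideal.smul_top_eq_map]
    have h1 : Ideal.map (algebraMap R ((c i).S ⊗[R] TB)) 𝔭 ≤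
        Ideal.map (algebraMap (c i).S ((c i).S ⊗[R] TB))
          (Ideal.map (algebraMap R (c i).S) 𝔭) := by
      rw [Ideal.map_map, ← IsScalarTower.algebraMap_eq]
    rw [htop, top_le_iff] at h1
    rw [h1]
    rfl
  have hB : ∀ i, IsDiag ((c i).S ⊗[R] TB) (((c i).S ⊗[R] TB) ⊗[R] B) := by
    intro i
    letI : Algebra TB ((c i).S ⊗[R] TB) := Algebra.TensorProduct.rightAlgebra
    haveI : IsScalarTower R TB ((c i).S ⊗[R] TB) := Algebra.TensorProduct.right_isScalarTower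
    exact IsDiag.of_tower TB ((c i).S ⊗[R] TB)
      (IsDiag.baseChange (R := TB) (A := TB ⊗[R] B) hdB ((c i).S ⊗[R] TB))
  have hCd : ∀ i, IsDiag ((c i).S ⊗[R] TB) (((c i).S ⊗[R] TB) ⊗[R] C) := by
    intro i
    exact IsDiag.of_tower (c i).S ((c i).S ⊗[R] TB)
      (IsDiag.baseChange (R := (c i).S) (A := (c i).S ⊗[R] C) (c i).diag ((c i).S ⊗[R] TB))
  exact exists_hom_lift_family K hK hker hsurj (fun i => (c i).S ⊗[R] TB) hJF hB hCd Φ₀

end Main

end Groth.Agent.Lib.Helper6.HomNil
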