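import Mathlib
import Groth.Prelude.Def_SGA3b
import Groth.Agent.Lib.Helper6.HomNil.HN2
import Groth.Agent.Lib.Helper6.HInt.HI4

/-!
# Homomorphisms between groups of multiplicative type and nilpotent thickenings, part 3 (helper6)

Flatness and quasi-isotriviality of the reductions `(A/K) ⊗ C` of a Hopf algebra `C` which is flat
over `A` at the points of `V(IC)` and whose reduction modulo `I` is quasi-isotrivial, for
`I^m ≤ K ≤ I`.
-/

set_option autoImplicit false
set_option linter.unusedSectionVars false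
set_option linter.unusedVariables false
set_option linter.unusedSimpArgs false
set_option linter.style.haveILetI false
set_option linter.overlappingInstances false
set_option maxHeartbeats 800000
set_option synthInstance.maxHeartbeats 400000

universe u
open TensorProduct SGA3b Coalgebra
open Groth.Agent.Lib.Helper6.MultType Groth.Agent.Lib.Helper6.Isotriv
open Groth.Agent.Lib.Helper6.QIso Groth.Agent.Lib.Helper6.Lift Groth.Agent.Lib.Helper6.FlatDef
open Groth.Agent.Lib.Helper6.HInt Groth.Agent.Lib.Helper6.IsoNil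

namespace Groth.Agent.Lib.Helper6.HomNil

section QI

variable {R : Type u} [CommRing R] {A : Type u} [CommRing A] [HopfAlgebra R A]

lemma isMultType_of_isQuasiIsotrivial (h : IsQuasiIsotrivial R A) : IsMultType R A := by
  obtain ⟨s, hs, H⟩ := h
  refine ⟨s, hs, fun f hf => ?_⟩
  obtain ⟨R', _, _, -, hff, hd⟩ := H f hf
  exact ⟨R', inferInstance, inferInstance, hff, hd⟩

end QI

section FlatNear

variable {A : Type u} [CommRing A] (I K : Ideal A) (C : Type u) [CommRing C] [Algebra A C]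

lemma flat_localization_aux (m : ℕ) (hIK : I ^ m ≤ K)
    (hfl : ∀ (q : Ideal C) [q.IsPrime], Ideal.map (algebraMap A C) I ≤ q →
      Module.Flat A (Localization.AtPrime q))
    (P : Ideal ((A ⧸ K) ⊗[A] C)) [P.IsPrime] :
    Module.Flat (A ⧸ K) (Localization.AtPrime P) := by
  obtain ⟨ι, hι⟩ : ∃ ι : C →ₐ[A] (A ⧸ K) ⊗[A] C, ι = Algebra.TensorProduct.includeRight :=
    ⟨_, rfl⟩
  have hιs : Function.Surjective ι := by
    rw [hι]
    exact iq_surjective K C
  haveI hq : (P.comap (ι : C →+* (A ⧸ K) ⊗[A] C)).IsPrime := Ideal.comap_isPrime _ P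
  obtain ⟨q, hqdef⟩ : ∃ q : Ideal C, q = P.comap (ι : C →+* (A ⧸ K) ⊗[A] C) := ⟨_, rfl⟩
  haveI hqp : q.IsPrime := hqdef ▸ hq
  have hmem : ∀ x : C, x ∈ q ↔ ι x ∈ P := by
    intro x
    rw [hqdef, Ideal.mem_comap]
    rfl
  have hIq : Ideal.map (algebraMap A C) I ≤ q := by
    rw [Ideal.map_le_iff_le_comap]
    intro i hi
    rw [Ideal.mem_comap, hmem]
    apply Ideal.IsPrime.mem_of_pow_mem inferInstance m
    have h1 : ι (algebraMap A C i) =
        algebraMap (A ⧸ K) ((A ⧸ K) ⊗[A] C) (Ideal.Quotient.mk K i) := by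
      rw [AlgHom.commutes, IsScalarTower.algebraMap_apply A (A ⧸ K) ((A ⧸ K) ⊗[A] C)]
      rfl
    rw [h1, ← map_pow, ← map_pow,
      Ideal.Quotient.eq_zero_iff_mem.mpr (hIK (Ideal.pow_mem_pow hi m)), map_zero]
    exact Ideal.zero_mem _
  haveI : Module.Flat A (Localization.AtPrime q) := hfl q hIq
  letI algN : Algebra ((A ⧸ K) ⊗[A] C) ((A ⧸ K) ⊗[A] Localization.AtPrime q) :=
    (Algebra.TensorProduct.map (AlgHom.id A (A ⧸ K))
      (IsScalarTower.toAlgHom A C (Localization.AtPrime q))).toRingHom.toAlgebra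
  haveI : IsScalarTower (A ⧸ K) ((A ⧸ K) ⊗[A] C) ((A ⧸ K) ⊗[A] Localization.AtPrime q) :=
    IsScalarTower.of_algebraMap_eq (R := A ⧸ K) (S := (A ⧸ K) ⊗[A] C)
      (A := (A ⧸ K) ⊗[A] Localization.AtPrime q) (fun r => by
      rw [Algebra.TensorProduct.algebraMap_apply, Algebra.TensorProduct.algebraMap_apply]
      show _ = Algebra.TensorProduct.map (AlgHom.id A (A ⧸ K))
        (IsScalarTower.toAlgHom A C (Localization.AtPrime q)) _
      rw [Algebra.TensorProduct.map_tmul, map_one]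
      rfl)
  have hloc : IsLocalization
      (q.primeCompl.map (Algebra.TensorProduct.includeRight (R := A) (A := A ⧸ K) (B := C)))
      ((A ⧸ K) ⊗[A] Localization.AtPrime q) :=
    IsLocalization.tensorProduct_tensorProduct_right A (A ⧸ K) q.primeCompl
      (Localization.AtPrime q) (by
        apply RingHom.ext
        intro c
        rfl)
  have hsub : q.primeCompl.map
      (Algebra.TensorProduct.includeRight (R := A) (A := A ⧸ K) (B := C)) = P.primeCompl := by
    ext y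
    constructor
    · rintro ⟨x, hx, rfl⟩
      rw [SetLike.mem_coe, Ideal.mem_primeCompl_iff] at hx
      rw [Ideal.mem_primeCompl_iff]
      intro hy
      apply hx
      rw [hmem, hι]
      exact hy
    · intro hy
      rw [Ideal.mem_primeCompl_iff] at hy
      obtain ⟨x, rfl⟩ := hιs y
      refine ⟨x, ?_, by rw [hι]⟩
      rw [SetLike.mem_coe, Ideal.mem_primeCompl_iff]
      intro hx
      apply hy
      exact (hmem x).mp hx
  rw [hsub] at hloc
  haveI := hloc
  exact Module.Flat.of_linearEquiv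
    ((IsLocalization.algEquiv P.primeCompl (Localization.AtPrime P)
      ((A ⧸ K) ⊗[A] Localization.AtPrime q)).toLinearEquiv.restrictScalars (A ⧸ K))

/-- If `C` is flat over `A` at the primes containing `IC` and `I^m ≤ K`, then `(A/K) ⊗ C` is flat
over `A/K`. -/
theorem flat_quot_of_flat_near (m : ℕ) (hIK : I ^ m ≤ K)
    (hfl : ∀ (q : Ideal C) [q.IsPrime], Ideal.map (algebraMap A C) I ≤ q →
      Module.Flat A (Localization.AtPrime q)) :
    Module.Flat (A ⧸ K) ((A ⧸ K) ⊗[A] C) := by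
  apply Module.flat_of_isLocalized_maximal (R := A ⧸ K) ((A ⧸ K) ⊗[A] C) ((A ⧸ K) ⊗[A] C)
    (fun P _ => Localization.AtPrime P)
    (fun P _ => Algebra.linearMap ((A ⧸ K) ⊗[A] C) (Localization.AtPrime P))
  intro P hP
  exact flat_localization_aux I K C m hIK hfl P

end FlatNear

section QuasiIso

variable {A : Type u} [CommRing A] (I K : Ideal A) (C : Type u) [CommRing C] [HopfAlgebra A C]

lemma isNilpotent_map_mk (m : ℕ) (hIK : I ^ m ≤ K) :
    IsNilpotent (I.map (Ideal.Quotient.mk K)) := by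
  refine ⟨m, ?_⟩
  rw [Ideal.zero_eq_bot, eq_bot_iff, ← Ideal.map_pow, ← Ideal.map_quotient_self K]
  exact Ideal.map_mono hIK

/-- The reduction `(A/K) ⊗ C` is quasi-isotrivial over `A/K` when it is flat and `(A/I) ⊗ C` is
quasi-isotrivial, for `I^m ≤ K ≤ I`. -/
theorem isQuasiIsotrivial_quot (hKI : K ≤ I) (m : ℕ) (hIK : I ^ m ≤ K)
    [Module.Flat (A ⧸ K) ((A ⧸ K) ⊗[A] C)]
    (h0 : IsQuasiIsotrivial (A ⧸ I) ((A ⧸ I) ⊗[A] C)) :
    IsQuasiIsotrivial (A ⧸ K) ((A ⧸ K) ⊗[A] C) := by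
  have hJ : IsNilpotent (I.map (Ideal.Quotient.mk K)) := isNilpotent_map_mk I K m hIK
  obtain ⟨σ, hσ⟩ : ∃ σ : ((A ⧸ K) ⧸ I.map (Ideal.Quotient.mk K)) ≃+* A ⧸ I,
      ∀ a : A, σ (Ideal.Quotient.mk _ (Ideal.Quotient.mk K a)) = Ideal.Quotient.mk I a :=
    ⟨DoubleQuot.quotQuotEquivQuotOfLE hKI,
      fun a => DoubleQuot.quotQuotEquivQuotOfLE_quotQuotMk a hKI⟩
  obtain ⟨sb, hsb, H⟩ := h0
  have hsb' : Ideal.span (σ ⁻¹' sb) = ⊤ := by
    have h1 : Ideal.map (σ.symm : A ⧸ I →+* (A ⧸ K) ⧸ I.map (Ideal.Quotient.mk K))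
        (Ideal.span sb) = ⊤ := by
      rw [hsb]
      exact Ideal.map_top _
    rw [Ideal.map_span] at h1
    have himg : (σ.symm : A ⧸ I →+* (A ⧸ K) ⧸ I.map (Ideal.Quotient.mk K)) '' sb = σ ⁻¹' sb := by
      ext x
      constructor
      · rintro ⟨y, hy, rfl⟩
        show σ (σ.symm y) ∈ sb
        rw [RingEquiv.apply_symm_apply]
        exact hy
      · intro hx
        exact ⟨σ x, hx, RingEquiv.symm_apply_apply σ x⟩
    rw [himg] at h1
    exact h1
  refine ⟨{f : A ⧸ K | Ideal.Quotient.mk (I.map (Ideal.Quotient.mk K)) f ∈ σ ⁻¹' sb},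
    span_preimage_eq_top _ (nil_of_isNilpotent _ hJ) _ hsb', fun f hf => ?_⟩
  obtain ⟨R0, _, _, hét, hff, hd⟩ := H (σ (Ideal.Quotient.mk _ f)) hf
  haveI := hét
  haveI := hff
  letI algQ : Algebra ((A ⧸ K) ⧸ I.map (Ideal.Quotient.mk K))
      (Localization.Away (σ (Ideal.Quotient.mk _ f))) :=
    ((algebraMap (A ⧸ I) (Localization.Away (σ (Ideal.Quotient.mk _ f)))).comp
      σ.symm.symm.toRingHom).toAlgebra
  haveI locQ : IsLocalization.Away (Ideal.Quotient.mk (I.map (Ideal.Quotient.mk K)) f)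
      (Localization.Away (σ (Ideal.Quotient.mk _ f))) := by
    have h1 := IsLocalization.isLocalization_of_base_ringEquiv
      (Submonoid.powers (σ (Ideal.Quotient.mk _ f)))
      (Localization.Away (σ (Ideal.Quotient.mk _ f))) σ.symm
    rw [Submonoid.map_powers] at h1
    have h2 : σ.symm (σ (Ideal.Quotient.mk (I.map (Ideal.Quotient.mk K)) f)) =
        Ideal.Quotient.mk (I.map (Ideal.Quotient.mk K)) f := RingEquiv.symm_apply_apply σ _
    rw [h2] at h1
    exact h1
  letI algR0 : Algebra ((A ⧸ K) ⧸ I.map (Ideal.Quotient.mk K)) R0 :=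
    ((algebraMap (Localization.Away (σ (Ideal.Quotient.mk _ f))) R0).comp
      (algebraMap ((A ⧸ K) ⧸ I.map (Ideal.Quotient.mk K))
        (Localization.Away (σ (Ideal.Quotient.mk _ f))))).toAlgebra
  haveI : IsScalarTower ((A ⧸ K) ⧸ I.map (Ideal.Quotient.mk K))
      (Localization.Away (σ (Ideal.Quotient.mk _ f))) R0 := IsScalarTower.of_algebraMap_eq' rfl
  letI algI : Algebra (A ⧸ I) R0 :=
    ((algebraMap (Localization.Away (σ (Ideal.Quotient.mk _ f))) R0).comp
      (algebraMap (A ⧸ I) (Localization.Away (σ (Ideal.Quotient.mk _ f))))).toAlgebra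
  haveI : IsScalarTower (A ⧸ I) (Localization.Away (σ (Ideal.Quotient.mk _ f))) R0 :=
    IsScalarTower.of_algebraMap_eq' rfl
  letI algA : Algebra A R0 :=
    ((algebraMap (A ⧸ I) R0).comp (algebraMap A (A ⧸ I))).toAlgebra
  haveI : IsScalarTower A (A ⧸ I) R0 := IsScalarTower.of_algebraMap_eq' rfl
  letI algK : Algebra (A ⧸ K) R0 :=
    ((algebraMap ((A ⧸ K) ⧸ I.map (Ideal.Quotient.mk K)) R0).comp
      (Ideal.Quotient.mk (I.map (Ideal.Quotient.mk K)))).toAlgebra
  haveI : IsScalarTower (A ⧸ K) ((A ⧸ K) ⧸ I.map (Ideal.Quotient.mk K)) R0 :=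
    IsScalarTower.of_algebraMap_eq' (R := A ⧸ K) (S := (A ⧸ K) ⧸ I.map (Ideal.Quotient.mk K))
      (A := R0) rfl
  haveI : IsScalarTower A (A ⧸ K) R0 := IsScalarTower.of_algebraMap_eq (fun a => by
    show algebraMap (Localization.Away (σ (Ideal.Quotient.mk _ f))) R0
        (algebraMap (A ⧸ I) (Localization.Away (σ (Ideal.Quotient.mk _ f)))
          (Ideal.Quotient.mk I a)) =
      algebraMap (Localization.Away (σ (Ideal.Quotient.mk _ f))) R0
        (algebraMap (A ⧸ I) (Localization.Away (σ (Ideal.Quotient.mk _ f)))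
          (σ (Ideal.Quotient.mk _ (Ideal.Quotient.mk K a))))
    rw [hσ a])
  have h2 : IsDiag R0 (R0 ⊗[A ⧸ I] ((A ⧸ I) ⊗[A] C)) :=
    IsDiag.of_tower (Localization.Away (σ (Ideal.Quotient.mk _ f))) R0 hd
  have h3 : IsDiag R0 (R0 ⊗[A] C) := IsDiag.of_tower (A ⧸ I) R0 h2
  have h4 : IsDiag R0 (R0 ⊗[A ⧸ K] ((A ⧸ K) ⊗[A] C)) := IsDiag.to_tower (A ⧸ K) R0 h3
  exact isQuasiIsotrivialConst_of_flat_mod_nilpotent (R := A ⧸ K) (A := (A ⧸ K) ⊗[A] C)
    (I.map (Ideal.Quotient.mk K)) hJ f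
    (Localization.Away f) (Localization.Away (σ (Ideal.Quotient.mk _ f))) R0
    (IsDiag.to_tower ((A ⧸ K) ⧸ I.map (Ideal.Quotient.mk K)) R0 h4)

end QuasiIso

end Groth.Agent.Lib.Helper6.HomNil
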