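import Mathlib
import Groth.Prelude.Def_SGA3b
import Groth.Agent.Lib.Helper6.HomNil.HN3
import Groth.Agent.Lib.Helper6.HCompl.HC5
import Groth.Agent.Lib.Helper6.CartIso.CD5
import Groth.Agent.Lib.Helper6.IsoNil.IN1
import Groth.Agent.Lib.Helper6.MultType.RigidComm

/-!
# Homomorphisms from an isotrivial group of multiplicative type over a complete base to a group
which is flat near its reduction and of multiplicative type modulo `I` (helper6)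
-/

set_option autoImplicit false
set_option linter.unusedSectionVars false
set_option linter.unusedVariables false
set_option linter.unusedSimpArgs false
set_option linter.style.haveILetI false
set_option linter.overlappingInstances false
set_option maxHeartbeats 800000
set_option synthInstance.maxHeartbeats 400000

universe u
open TensorProduct SGA3b Coalgebra
open Groth.Agent.Lib.Helper6.MultType Groth.Agent.Lib.Helper6.Isotriv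
open Groth.Agent.Lib.Helper6.QIso Groth.Agent.Lib.Helper6.Lift Groth.Agent.Lib.Helper6.FlatDef
open Groth.Agent.Lib.Helper6.HInt Groth.Agent.Lib.Helper6.IsoNil Groth.Agent.Lib.Helper6.HCompl
open Groth.Agent.Lib.Helper6.CartIso

namespace Groth.Agent.Lib.Helper6.HomNil

section Step

variable {A : Type u} [CommRing A]
variable {B : Type u} [CommRing B] [HopfAlgebra A B] {C : Type u} [CommRing C] [HopfAlgebra A C]
variable (A' : Type u) [CommRing A'] [Algebra A A'] [Module.FaithfullyFlat A A']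
  (hdB : IsDiag A' (A' ⊗[A] B))

include hdB in
/-- One step of the tower of liftings. -/
theorem step_lift (K J : Ideal A) (hKJ : K ≤ J) (hJK : J * J ≤ K)
    (hCK : IsMultType (A ⧸ K) ((A ⧸ K) ⊗[A] C))
    (Ψ : (A ⧸ J) ⊗[A] C →ₐc[A ⧸ J] (A ⧸ J) ⊗[A] B) :
    ∃ Ψ' : (A ⧸ K) ⊗[A] C →ₐc[A ⧸ K] (A ⧸ K) ⊗[A] B,
      ∀ c : C, tq hKJ B (Ψ' ((1 : A ⧸ K) ⊗ₜ[A] c)) = Ψ ((1 : A ⧸ J) ⊗ₜ[A] c) := by
  letI algRR : Algebra (A ⧸ K) (A ⧸ J) := (Ideal.Quotient.factor hKJ).toAlgebra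
  haveI : IsScalarTower A (A ⧸ K) (A ⧸ J) := IsScalarTower.of_algebraMap_eq (fun a => rfl)
  have hKn : IsNilpotent (J.map (Ideal.Quotient.mk K)) :=
    isNilpotent_map_mk J K 2 (by rw [pow_two]; exact hJK)
  have hker : ∀ r : A ⧸ K, algebraMap (A ⧸ K) (A ⧸ J) r = 0 → r ∈ J.map (Ideal.Quotient.mk K) := by
    intro r hr
    obtain ⟨a, rfl⟩ := Ideal.Quotient.mk_surjective r
    have h1 : Ideal.Quotient.mk J a = 0 := hr
    exact Ideal.mem_map_of_mem _ (Ideal.Quotient.eq_zero_iff_mem.mp h1)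
  have hsurj : Function.Surjective (algebraMap (A ⧸ K) (A ⧸ J)) :=
    Ideal.Quotient.factor_surjective hKJ
  have hTB : IsDiag ((A ⧸ K) ⊗[A] A') (((A ⧸ K) ⊗[A] A') ⊗[A ⧸ K] ((A ⧸ K) ⊗[A] B)) := by
    letI : Algebra A' ((A ⧸ K) ⊗[A] A') := Algebra.TensorProduct.rightAlgebra
    haveI : IsScalarTower A A' ((A ⧸ K) ⊗[A] A') := Algebra.TensorProduct.right_isScalarTower
    have h1 : IsDiag ((A ⧸ K) ⊗[A] A') (((A ⧸ K) ⊗[A] A') ⊗[A] B) :=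
      IsDiag.of_tower A' ((A ⧸ K) ⊗[A] A')
        (IsDiag.baseChange (R := A') (A := A' ⊗[A] B) hdB ((A ⧸ K) ⊗[A] A'))
    exact IsDiag.to_tower (A ⧸ K) ((A ⧸ K) ⊗[A] A') h1
  obtain ⟨Φ₀, hΦ₀⟩ : ∃ Φ₀ : (A ⧸ J) ⊗[A ⧸ K] ((A ⧸ K) ⊗[A] C) →ₐc[A ⧸ J]
      (A ⧸ J) ⊗[A ⧸ K] ((A ⧸ K) ⊗[A] B),
      ∀ x, Φ₀ x = (cancelBaseChangeBialgEquiv A (A ⧸ K) B (A ⧸ J)).symm
        (Ψ (cancelBaseChangeBialgEquiv A (A ⧸ K) C (A ⧸ J) x)) :=
    ⟨(((cancelBaseChangeBialgEquiv A (A ⧸ K) B (A ⧸ J)).symm :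
        (A ⧸ J) ⊗[A] B →ₐc[A ⧸ J] (A ⧸ J) ⊗[A ⧸ K] ((A ⧸ K) ⊗[A] B)).comp Ψ).comp
      (cancelBaseChangeBialgEquiv A (A ⧸ K) C (A ⧸ J) :
        (A ⧸ J) ⊗[A ⧸ K] ((A ⧸ K) ⊗[A] C) →ₐc[A ⧸ J] (A ⧸ J) ⊗[A] C), fun x => rfl⟩
  obtain ⟨φ, hφ⟩ := exists_hom_lift_of_nilpotent (R := A ⧸ K) (R₀ := A ⧸ J)
    (B := (A ⧸ K) ⊗[A] B) (C := (A ⧸ K) ⊗[A] C) (J.map (Ideal.Quotient.mk K)) hKn hker hsurj
    ((A ⧸ K) ⊗[A] A') hTB hCK Φ₀
  refine ⟨φ, fun c => ?_⟩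
  have htq : ∀ y : (A ⧸ K) ⊗[A] B,
      tq hKJ B y = push B (IsScalarTower.toAlgHom A (A ⧸ K) (A ⧸ J)) y := by
    intro y
    induction y using TensorProduct.induction_on with
    | zero => simp
    | tmul r b => rfl
    | add y z hy hz => rw [map_add, map_add, hy, hz]
  have h1 := hφ ((1 : A ⧸ K) ⊗ₜ[A] c)
  rw [hΦ₀, cancelBaseChangeBialgEquiv_tmul, one_smul] at h1
  rw [htq, ← cancel_one_tmul (R := A) (A := B) (R' := A ⧸ K) (A ⧸ J), ← h1,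
    BialgEquiv.apply_symm_apply]

include hdB in
/-- The tower of liftings. -/
theorem exists_towerM (I : Ideal A)
    (hC : ∀ n : ℕ, IsMultType (A ⧸ I ^ (n + 1)) ((A ⧸ I ^ (n + 1)) ⊗[A] C))
    (φ₀ : (A ⧸ I) ⊗[A] C →ₐc[A ⧸ I] (A ⧸ I) ⊗[A] B) :
    ∃ Ψ : ∀ n : ℕ, (A ⧸ I ^ (n + 1)) ⊗[A] C →ₐc[A ⧸ I ^ (n + 1)] (A ⧸ I ^ (n + 1)) ⊗[A] B,
      (∀ n (c : C), tq (pow_succ_le I n) B (Ψ (n + 1) ((1 : A ⧸ I ^ (n + 1 + 1)) ⊗ₜ[A] c)) =
        Ψ n ((1 : A ⧸ I ^ (n + 1)) ⊗ₜ[A] c)) ∧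
      ∀ c : C, tq (pow_one_le I) B (Ψ 0 ((1 : A ⧸ I ^ (0 + 1)) ⊗ₜ[A] c)) =
        φ₀ ((1 : A ⧸ I) ⊗ₜ[A] c) := by
  have hstep : ∀ n (Ψ : (A ⧸ I ^ (n + 1)) ⊗[A] C →ₐc[A ⧸ I ^ (n + 1)] (A ⧸ I ^ (n + 1)) ⊗[A] B),
      ∃ Ψ' : (A ⧸ I ^ (n + 1 + 1)) ⊗[A] C →ₐc[A ⧸ I ^ (n + 1 + 1)]
        (A ⧸ I ^ (n + 1 + 1)) ⊗[A] B,
        ∀ c : C, tq (pow_succ_le I n) B (Ψ' ((1 : A ⧸ I ^ (n + 1 + 1)) ⊗ₜ[A] c)) =
          Ψ ((1 : A ⧸ I ^ (n + 1)) ⊗ₜ[A] c) :=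
    fun n Ψ => step_lift A' hdB (I ^ (n + 1 + 1)) (I ^ (n + 1)) (pow_succ_le I n)
      (pow_mul_pow_le I n) (hC (n + 1)) Ψ
  obtain ⟨Ψ0, hΨ0⟩ := step_lift A' hdB (I ^ (0 + 1)) I (pow_one_le I) (mul_self_le_pow_one I)
    (hC 0) φ₀
  choose next hnext using hstep
  let seq : ∀ n : ℕ, (A ⧸ I ^ (n + 1)) ⊗[A] C →ₐc[A ⧸ I ^ (n + 1)] (A ⧸ I ^ (n + 1)) ⊗[A] B :=
    fun n => Nat.rec Ψ0 (fun k s => next k s) n
  exact ⟨seq, fun n c => hnext n (seq n) c, hΨ0⟩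

end Step

section Main

/-- **SGA 3, IX 7.1.** -/
theorem bialgHom_reduction_bijective (A : Type u) [CommRing A] [IsNoetherianRing A] (I : Ideal A)
    [IsAdicComplete I A]
    (B : Type u) [CommRing B] [HopfAlgebra A B] (hG : IsIsotrivial A B)
    (C : Type u) [CommRing C] [HopfAlgebra A C]
    (hfl : ∀ (q : Ideal C) [q.IsPrime], Ideal.map (algebraMap A C) I ≤ q →
      Module.Flat A (Localization.AtPrime q))
    (h0 : IsQuasiIsotrivial (A ⧸ I) ((A ⧸ I) ⊗[A] C)) :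
    (∀ φ ψ : C →ₐc[A] B, (∀ c : C, (1 : A ⧸ I) ⊗ₜ[A] (φ c) = (1 : A ⧸ I) ⊗ₜ[A] (ψ c)) → φ = ψ) ∧
    (∀ φ₀ : ((A ⧸ I) ⊗[A] C) →ₐc[A ⧸ I] ((A ⧸ I) ⊗[A] B),
      ∃ φ : C →ₐc[A] B, ∀ c : C, φ₀ ((1 : A ⧸ I) ⊗ₜ[A] c) = (1 : A ⧸ I) ⊗ₜ[A] (φ c)) := by
  have hmtB : IsMultType A B := isMultType_of_isIsotrivial hG
  have hC : ∀ n : ℕ, IsMultType (A ⧸ I ^ (n + 1)) ((A ⧸ I ^ (n + 1)) ⊗[A] C) := by
    intro n
    haveI : Module.Flat (A ⧸ I ^ (n + 1)) ((A ⧸ I ^ (n + 1)) ⊗[A] C) :=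
      flat_quot_of_flat_near I (I ^ (n + 1)) C (n + 1) le_rfl hfl
    exact isMultType_of_isQuasiIsotrivial
      (isQuasiIsotrivial_quot I (I ^ (n + 1)) C (Ideal.pow_le_self (Nat.succ_ne_zero n)) (n + 1)
        le_rfl h0)
  obtain ⟨A', _, _, -, hfin, hff, hdB⟩ := hG
  haveI := hfin
  haveI := hff
  obtain ⟨M, _, ⟨e⟩⟩ := id hdB
  constructor
  · intro φ ψ h
    have key : ∀ (n : ℕ) (c : C), iq (I ^ (n + 1)) B (φ c) = iq (I ^ (n + 1)) B (ψ c) := by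
      intro n c
      haveI : Coalgebra.IsCocomm (A ⧸ I ^ (n + 1)) ((A ⧸ I ^ (n + 1)) ⊗[A] C) :=
        isCocomm_of_isMultType (hC n)
      have hBn : IsMultType (A ⧸ I ^ (n + 1)) ((A ⧸ I ^ (n + 1)) ⊗[A] B) :=
        IsMultType.baseChange hmtB (A ⧸ I ^ (n + 1))
      have hJ : IsNilpotent (I.map (Ideal.Quotient.mk (I ^ (n + 1)))) :=
        isNilpotent_map_mk I (I ^ (n + 1)) (n + 1) le_rfl
      have hd : ∀ (r : A ⧸ I ^ (n + 1)) (d : B), d ∈ I • (⊤ : Submodule A B) →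
          r ⊗ₜ[A] d ∈ Ideal.map (algebraMap (A ⧸ I ^ (n + 1)) ((A ⧸ I ^ (n + 1)) ⊗[A] B))
            (I.map (Ideal.Quotient.mk (I ^ (n + 1)))) := by
        intro r d hd
        refine Submodule.smul_induction_on hd ?_ ?_
        · intro i hi b _
          have e3 : r ⊗ₜ[A] (i • b) =
              algebraMap (A ⧸ I ^ (n + 1)) ((A ⧸ I ^ (n + 1)) ⊗[A] B)
                (Ideal.Quotient.mk (I ^ (n + 1)) i) * (r ⊗ₜ[A] b) := by
            rw [Algebra.TensorProduct.algebraMap_apply, Algebra.TensorProduct.tmul_mul_tmul,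
              one_mul, TensorProduct.tmul_smul, TensorProduct.smul_tmul', Algebra.smul_def]
            rfl
          rw [e3]
          exact Ideal.mul_mem_right _ _
            (Ideal.mem_map_of_mem _ (Ideal.mem_map_of_mem _ hi))
        · intro x y hx hy
          rw [TensorProduct.tmul_add]
          exact Ideal.add_mem _ hx hy
      have H : ∀ x : (A ⧸ I ^ (n + 1)) ⊗[A] C,
          Bialgebra.TensorProduct.map (BialgHom.id (A ⧸ I ^ (n + 1)) (A ⧸ I ^ (n + 1))) φ x -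
            Bialgebra.TensorProduct.map (BialgHom.id (A ⧸ I ^ (n + 1)) (A ⧸ I ^ (n + 1))) ψ x ∈
          Ideal.map (algebraMap (A ⧸ I ^ (n + 1)) ((A ⧸ I ^ (n + 1)) ⊗[A] B))
            (I.map (Ideal.Quotient.mk (I ^ (n + 1)))) := by
        intro x
        induction x using TensorProduct.induction_on with
        | zero =>
          rw [map_zero, map_zero, sub_zero]
          exact Ideal.zero_mem _
        | tmul r c' =>
          have e1 : Bialgebra.TensorProduct.map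
              (BialgHom.id (A ⧸ I ^ (n + 1)) (A ⧸ I ^ (n + 1))) φ (r ⊗ₜ[A] c') -
              Bialgebra.TensorProduct.map
                (BialgHom.id (A ⧸ I ^ (n + 1)) (A ⧸ I ^ (n + 1))) ψ (r ⊗ₜ[A] c') =
              r ⊗ₜ[A] (φ c' - ψ c') := by
            rw [TensorProduct.tmul_sub]
            rfl
          rw [e1]
          apply hd
          apply mem_smul_top_of_one_tmul I
          rw [TensorProduct.tmul_sub, h c', sub_self]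
        | add y z hy hz =>
          have e2 : ∀ a b c d : (A ⧸ I ^ (n + 1)) ⊗[A] B, (a + b) - (c + d) = (a - c) + (b - d) := by
            intro a b c d
            abel
          rw [map_add, map_add, e2]
          exact Ideal.add_mem _ hy hz
      have heq := bialgHom_ext_of_nilpotent hBn _ hJ
        (Bialgebra.TensorProduct.map (BialgHom.id (A ⧸ I ^ (n + 1)) (A ⧸ I ^ (n + 1))) φ)
        (Bialgebra.TensorProduct.map (BialgHom.id (A ⧸ I ^ (n + 1)) (A ⧸ I ^ (n + 1))) ψ) H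
      have h2 := congrArg (fun F : (A ⧸ I ^ (n + 1)) ⊗[A] C →ₐc[A ⧸ I ^ (n + 1)]
        (A ⧸ I ^ (n + 1)) ⊗[A] B => F ((1 : A ⧸ I ^ (n + 1)) ⊗ₜ[A] c)) heq
      exact h2
    apply BialgHom.ext
    intro c
    rw [← sub_eq_zero]
    apply sep_B I e
    intro n
    rw [map_sub, key n c, sub_self]
  · intro φ₀
    obtain ⟨Ψ, hΨs, hΨ0⟩ := exists_towerM A' hdB I hC φ₀
    obtain ⟨F, hF⟩ : ∃ F : ∀ n : ℕ, C →ₐ[A] Bq (I ^ (n + 1)) B, ∀ n, F n =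
        ((Ψ n : (A ⧸ I ^ (n + 1)) ⊗[A] C →ₐ[A ⧸ I ^ (n + 1)]
          (A ⧸ I ^ (n + 1)) ⊗[A] B).restrictScalars A).comp (iq (I ^ (n + 1)) C) := ⟨_, fun _ => rfl⟩
    have hFc : ∀ n, IsComultB (I ^ (n + 1)) (F n) := by
      intro n
      rw [hF]
      exact isComultB_of_bialgHom (I ^ (n + 1)) (Ψ n)
    have hFt : ∀ n, (tq (pow_succ_le I n) B).comp (F (n + 1)) = F n := by
      intro n
      apply AlgHom.ext
      intro c
      rw [hF, hF]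
      exact hΨs n c
    obtain ⟨Φ, hΦc, hΦn⟩ := exists_algebraization I e F hFc hFt
    obtain ⟨φ, hφ⟩ := exists_bialgHom_of_isComult Φ hΦc
    refine ⟨φ, fun c => ?_⟩
    rw [hφ c, ← hΨ0 c]
    have h3 := AlgHom.congr_fun (hΦn 0) c
    have h4 : Ψ 0 ((1 : A ⧸ I ^ (0 + 1)) ⊗ₜ[A] c) = F 0 c := by
      rw [hF]
      rfl
    rw [h4, ← h3]
    exact tq_iq (pow_one_le I) B (Φ c)

end Main

end Groth.Agent.Lib.Helper6.HomNil
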